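import Cfsg.Agent.H440.TD4.Model

/-!
# S4822, KE: finite checks for lines in the torus model (helper267)

Vectors with coordinates `u + v x` (`u`, `v` integers, `x ∈ ZMod p` with `x ^ 2 = s x + t`; in use `x = q` of order 3, 4, 6).

* `sum_inv` : sums over the roots are invariant under the Weyl group;
* `ev`, `qmul`, `qpow`, `nrm`, `cv`, `dotv` : quadratic integers, vectors, values at the roots;
* `mem_Lam` : the eigenvector check;
* `pow_eq_one_of_fus` : `i c ~ c → i ^ k = 1` if the `k`-th power sum of the root values is not `0`;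
* `zeros` : the number of roots with value `0`.
-/

set_option autoImplicit false
set_option linter.unusedSectionVars false

namespace Cfsg.Agent.H267.KE

open CoxeterSystem Cfsg Cfsg.Lie Cfsg.Lie.ChevalleyDatum
open Cfsg.Agent.ChevalleyStructure Cfsg.Agent.ChevalleyStructure.Elts Cfsg.Agent.ChevalleyStructure.CoxeterGeom
  Cfsg.Agent.ChevalleyStructure.CoxeterGeomTypes Cfsg.Agent.ChevalleyStructure.NPerm
  Cfsg.Agent.ChevalleyStructure.RootVec
open Cfsg.Agent.Tits.Roots Cfsg.Agent.Tits.Core Cfsg.Agent.Nodes Cfsg.Agent.Nodes.Reps Cfsg.Agent.Nodes.BNOf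
  Cfsg.Agent.Nodes.RGDChev Cfsg.Agent.Nodes.Bruhat Cfsg.Agent.Nodes.SubComb Cfsg.Agent.Nodes.Coroot
open Cfsg.Agent.H129.WData Cfsg.Agent.H210.EL Cfsg.Agent.H440.TD4

section inv

variable {D : ChevalleyDatum} {l : ℕ} {M : CoxeterMatrix (Fin l)} (hp : IsType D l M)

/-- sums over the roots are invariant -/
theorem sum_inv {R : Type*} [AddCommMonoid R] (w : M.Group) (F : (Fin l → ℤ) → R) :
    ∑ r : Fin D.nroots, F (rep M.toCoxeterSystem hp.isCartan w (vec D l r)) = ∑ r : Fin D.nroots, F (vec D l r) := by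
  classical
  have h1 : ∀ r : Fin D.nroots, ∃ s : Fin D.nroots,
      vec D l s = rep M.toCoxeterSystem hp.isCartan w (vec D l r) := by
    intro r
    obtain ⟨s, hs, e⟩ := (isRoot_iff hp M.toCoxeterSystem _).1 ((isRoot_vec hp M.toCoxeterSystem r.2).act w)
    exact ⟨⟨s, hs⟩, e⟩
  choose φ hφ using h1
  have hinj : Function.Injective φ := by
    intro a b h
    have h2 : rep M.toCoxeterSystem hp.isCartan w (vec D l a) = rep M.toCoxeterSystem hp.isCartan w (vec D l b) := by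
      rw [← hφ, ← hφ, h]
    exact Fin.ext (vec_inj hp a.2 b.2 (rep_injective_apply M.toCoxeterSystem hp.isCartan w h2))
  have hbij : Function.Bijective φ := Finite.injective_iff_bijective.1 hinj
  rw [← hbij.sum_comp (fun s => F (vec D l s))]
  exact Finset.sum_congr rfl fun r _ => by rw [hφ]

/-- the number of roots with value `0` -/
def zeros (D : ChevalleyDatum) (l : ℕ) {p : ℕ} (c : Fin l → ZMod p) : ℕ :=
  ∑ r : Fin D.nroots, if lam c (vec D l r) = 0 then 1 else 0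

/-- the power sums of the root values -/
def psum (D : ChevalleyDatum) (l : ℕ) {p : ℕ} (k : ℕ) (c : Fin l → ZMod p) : ZMod p :=
  ∑ r : Fin D.nroots, lam c (vec D l r) ^ k

/-- `c` and `c'` in the same orbit of the Weyl group -/
def Fus {D : ChevalleyDatum} {l : ℕ} {M : CoxeterMatrix (Fin l)} (hp : IsType D l M) {p : ℕ}
    (c c' : Fin l → ZMod p) : Prop :=
  ∃ w : M.Group, ∀ x, lam c' (rep M.toCoxeterSystem hp.isCartan w x) = lam c x

variable {hp}

theorem Fus.zeros_eq {p : ℕ} {c c' : Fin l → ZMod p} (h : Fus hp c c') : zeros D l c = zeros D l c' := by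
  obtain ⟨w, hw⟩ := h
  unfold zeros
  rw [← sum_inv hp w (fun y => if lam c' y = 0 then (1 : ℕ) else 0)]
  exact Finset.sum_congr rfl fun r _ => by rw [hw]

theorem Fus.psum_eq {p : ℕ} {c c' : Fin l → ZMod p} (h : Fus hp c c') (k : ℕ) : psum D l k c = psum D l k c' := by
  obtain ⟨w, hw⟩ := h
  unfold psum
  rw [← sum_inv hp w (fun y => lam c' y ^ k)]
  exact Finset.sum_congr rfl fun r _ => by rw [hw]

theorem psum_smul {p : ℕ} (k : ℕ) (s : ZMod p) (c : Fin l → ZMod p) :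
    psum D l k (s • c) = s ^ k * psum D l k c := by
  unfold psum
  rw [Finset.mul_sum]
  exact Finset.sum_congr rfl fun r _ => by rw [lam_smul', mul_pow]

theorem zeros_smul {p : ℕ} [Fact p.Prime] {s : ZMod p} (hs : s ≠ 0) (c : Fin l → ZMod p) :
    zeros D l (s • c) = zeros D l c := by
  unfold zeros
  refine Finset.sum_congr rfl fun r _ => ?_
  rw [lam_smul']
  simp only [mul_eq_zero, hs, false_or]

theorem pow_eq_one_of_fus {p : ℕ} [Fact p.Prime] {k : ℕ} {s : ZMod p} {c : Fin l → ZMod p} (h : Fus hp c (s • c))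
    (h0 : psum D l k c ≠ 0) : s ^ k = 1 := by
  have h1 := h.psum_eq k
  rw [psum_smul] at h1
  have h2 : (s ^ k - 1) * psum D l k c = 0 := by rw [sub_mul, one_mul, ← h1, sub_self]
  rcases mul_eq_zero.1 h2 with h3 | h3
  · exact sub_eq_zero.1 h3
  · exact absurd h3 h0

end inv

/-! ### quadratic integers -/

/-- product -/
def qmul (s t : ℤ) (a b : ℤ × ℤ) : ℤ × ℤ :=
  (a.1 * b.1 + t * (a.2 * b.2), a.1 * b.2 + a.2 * b.1 + s * (a.2 * b.2))

/-- power -/
def qpow (s t : ℤ) (a : ℤ × ℤ) : ℕ → ℤ × ℤ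
  | 0 => (1, 0)
  | n + 1 => qmul s t (qpow s t a n) a

/-- norm -/
def nrm (s t : ℤ) (a : ℤ × ℤ) : ℤ := a.1 * a.1 + s * (a.1 * a.2) - t * (a.2 * a.2)

/-- evaluation -/
def ev {p : ℕ} (x : ZMod p) (a : ℤ × ℤ) : ZMod p := (a.1 : ZMod p) + (a.2 : ZMod p) * x

theorem ev_add {p : ℕ} (x : ZMod p) (a b : ℤ × ℤ) : ev x (a + b) = ev x a + ev x b := by
  unfold ev
  rw [Prod.fst_add, Prod.snd_add, Int.cast_add, Int.cast_add]
  ring

theorem ev_zero {p : ℕ} (x : ZMod p) : ev x 0 = 0 := by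
  unfold ev
  rw [Prod.fst_zero, Prod.snd_zero, Int.cast_zero, zero_mul, add_zero]

/-- `ev` as an additive map -/
def evHom {p : ℕ} (x : ZMod p) : ℤ × ℤ →+ ZMod p where
  toFun := ev x
  map_zero' := ev_zero x
  map_add' := ev_add x

theorem ev_sum {p : ℕ} (x : ZMod p) {ι : Type*} (I : Finset ι) (f : ι → ℤ × ℤ) :
    ev x (∑ i ∈ I, f i) = ∑ i ∈ I, ev x (f i) := map_sum (evHom x) f I

variable {p : ℕ} {x : ZMod p} {s t : ℤ}

theorem ev_mul (hx : x * x = s * x + t) (a b : ℤ × ℤ) : ev x (qmul s t a b) = ev x a * ev x b := by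
  unfold ev qmul
  push_cast
  linear_combination -((a.2 : ZMod p) * b.2) * hx

theorem ev_pow (hx : x * x = s * x + t) (a : ℤ × ℤ) (n : ℕ) : ev x (qpow s t a n) = ev x a ^ n := by
  induction n with
  | zero =>
    unfold qpow ev
    simp
  | succ n ih =>
    rw [qpow, ev_mul hx, ih, pow_succ]

theorem nrm_of_ev (hx : x * x = s * x + t) {a : ℤ × ℤ} (h : ev x a = 0) : ((nrm s t a : ℤ) : ZMod p) = 0 := by
  have h1 : ((nrm s t a : ℤ) : ZMod p) = ev x a * ((a.1 : ZMod p) + a.2 * (s - x)) := by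
    unfold ev nrm
    push_cast
    linear_combination ((a.2 : ZMod p) * a.2) * hx
  rw [h1, h, zero_mul]

/-- the vector with coordinates `ev x (C n)` -/
def cv {l p : ℕ} (x : ZMod p) (C : Fin l → ℤ × ℤ) : Fin l → ZMod p := fun n => ev x (C n)

/-- the value at a lattice vector -/
def dotx {l : ℕ} (C : Fin l → ℤ × ℤ) (y : Fin l → ℤ) : ℤ × ℤ := (∑ n, y n * (C n).1, ∑ n, y n * (C n).2)

/-- the value at a root -/
def dotv (D : ChevalleyDatum) {l : ℕ} (C : Fin l → ℤ × ℤ) (r : ℕ) : ℤ × ℤ := dotx C (vec D l r)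

theorem lam_cv {l : ℕ} (x : ZMod p) (C : Fin l → ℤ × ℤ) (y : Fin l → ℤ) : lam (cv x C) y = ev x (dotx C y) := by
  unfold lam cv ev dotx
  rw [Int.cast_sum, Int.cast_sum, Finset.sum_mul, ← Finset.sum_add_distrib]
  refine Finset.sum_congr rfl fun n _ => ?_
  push_cast
  ring

theorem psum_cv (hx : x * x = s * x + t) (D : ChevalleyDatum) {l : ℕ} (C : Fin l → ℤ × ℤ) (k : ℕ) :
    psum D l k (cv x C) = ev x (∑ r : Fin D.nroots, qpow s t (dotv D C r) k) := by
  unfold psum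
  rw [ev_sum]
  refine Finset.sum_congr rfl fun r _ => ?_
  rw [lam_cv, ev_pow hx]
  rfl

theorem ev_int (n : ℤ) : ev x (n, 0) = (n : ZMod p) := by
  unfold ev
  simp

theorem intCast_ne_zero (h11 : 11 ≤ p) {n : ℤ} (h0 : 0 < n) (h1 : n < 11) : (n : ZMod p) ≠ 0 := by
  intro h
  rw [ZMod.intCast_zmod_eq_zero_iff_dvd] at h
  have h2 := Int.le_of_dvd h0 h
  have h3 : (11 : ℤ) ≤ p := by exact_mod_cast h11
  omega

/-- the values at the roots are `0` or have small norm -/
def Small (D : ChevalleyDatum) {l : ℕ} (s t : ℤ) (C : Fin l → ℤ × ℤ) : Prop :=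
  ∀ r : Fin D.nroots, dotv D C r = (0, 0) ∨ (0 < nrm s t (dotv D C r) ∧ nrm s t (dotv D C r) < 11)

instance decSmall (D : ChevalleyDatum) {l : ℕ} (s t : ℤ) (C : Fin l → ℤ × ℤ) : Decidable (Small D s t C) := by
  unfold Small; infer_instance

theorem ev_eq_zero_iff (h11 : 11 ≤ p) (hx : x * x = s * x + t) {a : ℤ × ℤ}
    (h : a = (0, 0) ∨ (0 < nrm s t a ∧ nrm s t a < 11)) : ev x a = 0 ↔ a = (0, 0) := by
  constructor
  · intro h1
    rcases h with h | ⟨h2, h3⟩
    · exact h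
    · exact absurd (nrm_of_ev hx h1) (intCast_ne_zero h11 h2 h3)
  · rintro rfl
    exact ev_zero x

theorem zeros_cv (h11 : 11 ≤ p) (hx : x * x = s * x + t) {D : ChevalleyDatum} {l : ℕ} {C : Fin l → ℤ × ℤ}
    (h : Small D s t C) :
    zeros D l (cv x C) = ∑ r : Fin D.nroots, if dotv D C r = (0, 0) then 1 else 0 := by
  unfold zeros
  refine Finset.sum_congr rfl fun r _ => ?_
  rw [lam_cv]
  have h1 := ev_eq_zero_iff h11 hx (h r)
  unfold dotv at h1 ⊢
  simp only [h1]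

/-- the eigenvector check -/
def EigC {l : ℕ} (Th : Mat l) (s t : ℤ) (C : Fin l → ℤ × ℤ) : Prop :=
  ∀ j, dotx C (Th j) = qmul s t (0, 1) (C j)

instance decEigC {l : ℕ} (Th : Mat l) (s t : ℤ) (C : Fin l → ℤ × ℤ) : Decidable (EigC Th s t C) := by
  unfold EigC; infer_instance

theorem mem_Lam {D : ChevalleyDatum} {l : ℕ} {M : CoxeterMatrix (Fin l)} (hp : IsType D l M) {Q : ℕ}
    {g : (Fin l → ℤ) ≃+ (Fin l → ℤ)} {w : M.Group} {Th : Mat l}
    (hTh : ∀ j, rep M.toCoxeterSystem hp.isCartan w (g (sr j)) = Th j) (hx : x * x = s * x + t)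
    (hQ : (Q : ZMod p) = x) {C : Fin l → ℤ × ℤ} (hC : EigC Th s t C) : cv x C ∈ Lam hp p Q g w := by
  intro y
  have h1 := ext_sr ((lamHom (cv x C)).comp ((rep M.toCoxeterSystem hp.isCartan w).toAddMonoidHom.comp g.toAddMonoidHom))
    ((AddMonoidHom.mulLeft (Q : ZMod p)).comp (lamHom (cv x C))) (fun i => by
      show lam (cv x C) (rep M.toCoxeterSystem hp.isCartan w (g (sr i))) = (Q : ZMod p) * lam (cv x C) (sr i)
      rw [hTh i, lam_sr, lam_cv, hC i, ev_mul hx, hQ]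
      congr 1
      unfold ev
      simp) y
  exact h1

end Cfsg.Agent.H267.KE
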