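import Cfsg.Agent.H267.KE.Line

/-!
# S4822, KE3: the data for `E₆` (helper267)

`d = 3` : `w` of type `3A₂`; `d = 4` : `w` of type `D₄(a₁)`; `d = 6` : `w` of type `E₆(a₂)`; lines with roots of value `0`.
-/

set_option autoImplicit false
set_option linter.unusedSectionVars false

namespace Cfsg.Agent.H267.KE

open CoxeterSystem Cfsg Cfsg.Lie Cfsg.Lie.ChevalleyDatum
open Cfsg.Agent.ChevalleyStructure Cfsg.Agent.ChevalleyStructure.Elts Cfsg.Agent.ChevalleyStructure.CoxeterGeom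
  Cfsg.Agent.ChevalleyStructure.CoxeterGeomTypes Cfsg.Agent.ChevalleyStructure.NPerm
  Cfsg.Agent.ChevalleyStructure.RootVec
open Cfsg.Agent.Tits.Roots Cfsg.Agent.Tits.Core Cfsg.Agent.Nodes Cfsg.Agent.Nodes.Reps Cfsg.Agent.Nodes.BNOf
  Cfsg.Agent.Nodes.RGDChev Cfsg.Agent.Nodes.Bruhat Cfsg.Agent.Nodes.SubComb Cfsg.Agent.Nodes.Coroot
open Cfsg.Agent.H129.WData Cfsg.Agent.H210.EL Cfsg.Agent.H440.TD4 Cfsg.Agent.H765.KE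
open Cfsg.Agent.H795.Core

universe u v

/-- the checks for a line `C` and a vector `B`, a root `r` being trivial on `C` but not on `B` -/
def LineOK (D : ChevalleyDatum) {l : ℕ} (Th : Mat l) (s t : ℤ) (C B : Fin l → ℤ × ℤ) (r : ℕ) : Prop :=
  EigC Th s t C ∧ EigC Th s t B ∧ r < D.nroots ∧ dotv D C r = (0, 0) ∧ 0 < nrm s t (dotv D B r) ∧
    nrm s t (dotv D B r) < 11

instance decLineOK (D : ChevalleyDatum) {l : ℕ} (Th : Mat l) (s t : ℤ) (C B : Fin l → ℤ × ℤ) (r : ℕ) :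
    Decidable (LineOK D Th s t C B r) := by
  unfold LineOK; infer_instance

section model

variable {D : ChevalleyDatum} {l : ℕ} {M : CoxeterMatrix (Fin l)} {hp : IsType D l M} {p Q : ℕ} [hpp : Fact p.Prime]
  {g : (Fin l → ℤ) ≃+ (Fin l → ℤ)} {w : M.Group} {G : Type v} [Group G] {X : (Fin l → ZMod p) → G} {s t : ℤ}
  {Th : Mat l} {C B : Fin l → ℤ × ℤ} {r : ℕ}

theorem LineOK.mem (h : LineOK D Th s t C B r)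
    (hTh : ∀ j, rep M.toCoxeterSystem hp.isCartan w (g (sr j)) = Th j)
    (hx : (Q : ZMod p) * Q = s * Q + t) : cv (Q : ZMod p) C ∈ Lam hp p Q g w :=
  mem_Lam hp hTh hx rfl h.1

theorem LineOK.rank [Finite G] {Mi : Ideal AlgInt} (m : ModelS hp p Q g w X) (hM : IsPModular p Mi) (h11 : 11 ≤ p)
    (h : LineOK D Th s t C B r) (hTh : ∀ j, rep M.toCoxeterSystem hp.isCartan w (g (sr j)) = Th j)
    (hx : (Q : ZMod p) * Q = s * Q + t) :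
    2 ≤ blockRank p (principalBlock Mi ↥(Subgroup.centralizer ({X (cv (Q : ZMod p) C)} : Set G))) := by
  refine rank_of_root m hM (h.mem hTh hx) (mem_Lam hp hTh hx rfl h.2.1) h.2.2.1 ?_ ?_
  · rw [lam_cv]
    show ev _ (dotv D C r) = 0
    rw [h.2.2.2.1]
    exact ev_zero _
  · rw [lam_cv]
    show ev _ (dotv D B r) ≠ 0
    intro h1
    exact intCast_ne_zero h11 h.2.2.2.2.1 h.2.2.2.2.2 (nrm_of_ev hx h1)

theorem LineOK.rank_top [Finite G] {Mi : Ideal AlgInt} (m : ModelS hp p Q g w X) (hM : IsPModular p Mi) (h11 : 11 ≤ p)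
    (h : LineOK D Th s t C B r) (hTh : ∀ j, rep M.toCoxeterSystem hp.isCartan w (g (sr j)) = Th j)
    (hx : (Q : ZMod p) * Q = s * Q + t) : 2 ≤ blockRank p (principalBlock Mi G) := by
  refine m.two_le_rank_top hM (mem_Lam hp hTh hx rfl h.2.1) (isRoot_vec hp M.toCoxeterSystem h.2.2.1) ?_
  rw [lam_cv]
  show ev _ (dotv D B r) ≠ 0
  intro h1
  exact intCast_ne_zero h11 h.2.2.2.2.1 h.2.2.2.2.2 (nrm_of_ev hx h1)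

end model

theorem ne_zero_of_psum {D : ChevalleyDatum} {l p k : ℕ} [Fact p.Prime] (hk : k ≠ 0) {c : Fin l → ZMod p} (h : psum D l k c ≠ 0) :
    c ≠ 0 := by
  rintro rfl
  apply h
  unfold psum
  refine Finset.sum_eq_zero fun r _ => ?_
  rw [lam_zero', zero_pow hk]

theorem smooth_ne_zero {p : ℕ} [hpp : Fact p.Prime] (h11 : 11 ≤ p) {n : ℤ} (m : ℕ) (h : n ∣ 210 ^ m) :
    (n : ZMod p) ≠ 0 := by
  intro h0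
  rw [ZMod.intCast_zmod_eq_zero_iff_dvd] at h0
  have h1 : (p : ℤ) ∣ 210 ^ m := h0.trans h
  have h2 : p ∣ 210 ^ m := by exact_mod_cast h1
  have h3 : p ∣ 2 * (3 * (5 * 7)) := hpp.out.dvd_of_dvd_pow h2
  rcases (hpp.out.dvd_mul).1 h3 with h4 | h4
  · have := Nat.le_of_dvd (by norm_num) h4; omega
  rcases (hpp.out.dvd_mul).1 h4 with h4 | h4
  · have := Nat.le_of_dvd (by norm_num) h4; omega
  rcases (hpp.out.dvd_mul).1 h4 with h4 | h4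
  · have := Nat.le_of_dvd (by norm_num) h4; omega
  · have := Nat.le_of_dvd (by norm_num) h4; omega

namespace E6

/-- the Cartan matrix -/
def Am : Mat 6 := ![![2, 0, -1, 0, 0, 0], ![0, 2, 0, -1, 0, 0], ![-1, 0, 2, -1, 0, 0], ![0, -1, -1, 2, -1, 0], ![0, 0, 0, -1, 2, -1], ![0, 0, 0, 0, -1, 2]]

theorem hA : ∀ i j, Am i j = cartanOf chevE6 6 i j := by decide +kernel

/-- the partial products, `d = 3` -/
def chain3 : List (Fin 6 × Mat 6) := [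
    (2, ![![0, 1, 1, 1, 0, 0], ![0, 0, 1, 1, 1, 1], ![0, 0, 0, 1, 1, 0], ![-1, -1, -2, -3, -2, -1], ![1, 1, 1, 2, 1, 1], ![0, -1, 0, -1, -1, -1]]),
    (4, ![![0, 1, 0, 1, 0, 0], ![0, 0, 0, 1, 1, 1], ![0, 0, 1, 1, 1, 0], ![-1, -1, -2, -3, -2, -1], ![1, 1, 2, 2, 1, 1], ![0, -1, -1, -1, -1, -1]]),
    (5, ![![0, 1, 0, 1, 1, 0], ![0, 0, 0, 1, 1, 1], ![0, 0, 1, 1, 0, 0], ![-1, -1, -2, -3, -2, -1], ![1, 1, 2, 2, 2, 1], ![0, -1, -1, -1, -1, -1]]),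
    (1, ![![0, 1, 0, 1, 1, 1], ![0, 0, 0, 1, 1, 0], ![0, 0, 1, 1, 0, 0], ![-1, -1, -2, -3, -2, -1], ![1, 1, 2, 2, 2, 1], ![0, -1, -1, -1, -1, 0]]),
    (0, ![![0, 0, 0, 1, 1, 1], ![0, 1, 0, 1, 1, 0], ![0, 1, 1, 1, 0, 0], ![-1, -2, -2, -3, -2, -1], ![1, 1, 2, 2, 2, 1], ![0, 0, -1, -1, -1, 0]]),
    (2, ![![0, 0, 0, 1, 1, 1], ![0, 1, 0, 1, 1, 0], ![1, 1, 1, 1, 0, 0], ![-1, -2, -2, -3, -2, -1], ![1, 1, 2, 2, 2, 1], ![-1, 0, -1, -1, -1, 0]]),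
    (3, ![![0, 0, 1, 1, 1, 1], ![0, 1, 1, 1, 1, 0], ![1, 1, 1, 1, 0, 0], ![-1, -2, -2, -3, -2, -1], ![1, 1, 1, 2, 2, 1], ![-1, 0, -1, -1, -1, 0]]),
    (2, ![![0, 0, 1, 1, 1, 1], ![0, 1, 1, 2, 1, 0], ![1, 1, 1, 1, 0, 0], ![-1, -2, -2, -3, -2, -1], ![1, 1, 1, 2, 2, 1], ![-1, 0, -1, -1, -1, 0]]),
    (4, ![![0, 0, 0, 1, 1, 1], ![0, 1, 1, 2, 1, 0], ![1, 1, 1, 1, 0, 0], ![-1, -2, -2, -3, -2, -1], ![1, 1, 2, 2, 2, 1], ![-1, 0, -1, -1, -1, 0]]),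
    (1, ![![0, 0, 0, 1, 1, 1], ![0, 1, 1, 2, 1, 0], ![1, 1, 1, 1, 1, 0], ![-1, -2, -2, -3, -2, -1], ![1, 1, 2, 2, 1, 1], ![-1, 0, -1, -1, 0, 0]]),
    (3, ![![0, 1, 0, 1, 1, 1], ![0, 1, 1, 2, 1, 0], ![1, 0, 1, 1, 1, 0], ![-1, -1, -2, -3, -2, -1], ![1, 1, 2, 2, 1, 1], ![-1, -1, -1, -1, 0, 0]]),
    (5, ![![0, 1, 0, 1, 1, 1], ![0, 1, 1, 1, 1, 0], ![1, 0, 1, 1, 1, 0], ![-1, -1, -2, -2, -2, -1], ![1, 1, 2, 2, 1, 1], ![-1, -1, -1, -1, 0, 0]]),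
    (2, ![![0, 1, 0, 1, 1, 0], ![0, 1, 1, 1, 1, 1], ![1, 0, 1, 1, 1, 1], ![-1, -1, -2, -2, -2, -1], ![1, 1, 2, 2, 1, 0], ![-1, -1, -1, -1, 0, 0]]),
    (4, ![![0, 1, 1, 1, 1, 0], ![0, 1, 0, 1, 1, 1], ![1, 0, 1, 1, 1, 1], ![-1, -1, -1, -2, -2, -1], ![1, 1, 1, 2, 1, 0], ![-1, -1, -1, -1, 0, 0]]),
    (5, ![![0, 1, 1, 1, 0, 0], ![0, 1, 0, 1, 1, 1], ![1, 0, 1, 1, 1, 1], ![-1, -1, -1, -2, -1, -1], ![1, 1, 1, 2, 1, 0], ![-1, -1, -1, -1, -1, 0]]),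
    (1, ![![0, 1, 1, 1, 0, 0], ![0, 1, 0, 1, 1, 0], ![1, 0, 1, 1, 1, 0], ![-1, -1, -1, -2, -1, 0], ![1, 1, 1, 2, 1, 1], ![-1, -1, -1, -1, -1, -1]]),
    (0, ![![0, 0, 1, 1, 0, 0], ![0, 0, 0, 1, 1, 0], ![1, 1, 1, 1, 1, 0], ![-1, -1, -1, -2, -1, 0], ![1, 1, 1, 2, 1, 1], ![-1, 0, -1, -1, -1, -1]]),
    (2, ![![1, 0, 1, 1, 0, 0], ![0, 0, 0, 1, 1, 0], ![0, 1, 1, 1, 1, 0], ![0, -1, -1, -2, -1, 0], ![0, 1, 1, 2, 1, 1], ![0, 0, -1, -1, -1, -1]]),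
    (3, ![![1, 0, 1, 1, 0, 0], ![0, 0, 1, 1, 1, 0], ![0, 1, 0, 1, 1, 0], ![0, -1, -1, -2, -1, 0], ![0, 1, 1, 2, 1, 1], ![0, 0, 0, -1, -1, -1]]),
    (2, ![![1, 0, 1, 0, 0, 0], ![0, 0, 1, 1, 1, 0], ![0, 1, 0, 1, 1, 0], ![0, -1, -1, -1, -1, 0], ![0, 1, 1, 1, 1, 1], ![0, 0, 0, 0, -1, -1]]),
    (4, ![![1, 0, 0, 0, 0, 0], ![0, 0, 0, 1, 1, 0], ![0, 1, 1, 1, 1, 0], ![0, -1, 0, -1, -1, 0], ![0, 1, 0, 1, 1, 1], ![0, 0, 0, 0, -1, -1]]),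
    (1, ![![1, 0, 0, 0, 0, 0], ![0, 0, 0, 1, 0, 0], ![0, 1, 1, 1, 0, 0], ![0, -1, 0, -1, 0, 0], ![0, 1, 0, 1, 1, 1], ![0, 0, 0, 0, 0, -1]]),
    (3, ![![1, 0, 0, 0, 0, 0], ![0, 1, 0, 1, 0, 0], ![0, 0, 1, 1, 0, 0], ![0, 0, 0, -1, 0, 0], ![0, 0, 0, 1, 1, 1], ![0, 0, 0, 0, 0, -1]]),
    (5, ![![1, 0, 0, 0, 0, 0], ![0, 1, 0, 0, 0, 0], ![0, 0, 1, 0, 0, 0], ![0, 0, 0, 1, 0, 0], ![0, 0, 0, 0, 1, 1], ![0, 0, 0, 0, 0, -1]])]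

theorem chainOK3 : ChainOK Am chain3 := by decide +kernel

/-- a line -/
def C3a : Fin 6 → ℤ × ℤ := ![(1, 1), (0, 0), (0, 0), (-1, 0), (1, 0), (0, 0)]

/-- an auxiliary vector -/
def B3a : Fin 6 → ℤ × ℤ := ![(0, 1), (-1, 0), (-1, -1), (1, 0), (0, 0), (0, 0)]

theorem line3a : LineOK chevE6 (hd chain3) (-1) (-1) C3a B3a 16 := by decide +kernel

theorem small3a : Small chevE6 (-1) (-1) C3a := by decide +kernel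

theorem psum3a_6 : ∑ r : Fin chevE6.nroots, qpow (-1) (-1) (dotv chevE6 C3a r) 6 = (48, 0) := by
  decide +kernel

theorem zeros3a : (∑ r : Fin chevE6.nroots, if dotv chevE6 C3a r = (0, 0) then 1 else 0) = 24 := by
  decide +kernel

/-- a line -/
def C3b : Fin 6 → ℤ × ℤ := ![(0, 0), (0, -1), (1, 0), (-1, 1), (1, 0), (0, 0)]

/-- an auxiliary vector -/
def B3b : Fin 6 → ℤ × ℤ := ![(0, 1), (-1, 0), (-1, -1), (1, 0), (0, 0), (0, 0)]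

theorem line3b : LineOK chevE6 (hd chain3) (-1) (-1) C3b B3b 10 := by decide +kernel

theorem small3b : Small chevE6 (-1) (-1) C3b := by decide +kernel

theorem psum3b_6 : ∑ r : Fin chevE6.nroots, qpow (-1) (-1) (dotv chevE6 C3b r) 6 = (-108, 0) := by
  decide +kernel

theorem zeros3b : (∑ r : Fin chevE6.nroots, if dotv chevE6 C3b r = (0, 0) then 1 else 0) = 12 := by
  decide +kernel

/-- the partial products, `d = 4` -/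
def chain4 : List (Fin 6 × Mat 6) := [
    (4, ![![1, 0, 1, 0, 0, 0], ![0, 0, 0, 0, -1, 0], ![0, 1, 1, 2, 1, 0], ![0, -1, -1, -1, 0, 0], ![0, 1, 0, 0, 0, 0], ![0, 0, 1, 1, 1, 1]]),
    (2, ![![1, 0, 1, 0, 0, 0], ![0, 0, 0, 0, 1, 0], ![0, 1, 1, 2, 1, 0], ![0, -1, -1, -1, -1, 0], ![0, 1, 0, 0, 0, 0], ![0, 0, 1, 1, 1, 1]]),
    (3, ![![1, 0, 0, 0, 0, 0], ![0, 0, 0, 0, 1, 0], ![0, 1, 1, 2, 1, 0], ![0, -1, 0, -1, -1, 0], ![0, 1, 0, 0, 0, 0], ![0, 0, 0, 1, 1, 1]]),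
    (1, ![![1, 0, 0, 0, 0, 0], ![0, 0, 0, 1, 1, 0], ![0, 1, 1, 1, 1, 0], ![0, -1, 0, -1, -1, 0], ![0, 1, 0, 1, 0, 0], ![0, 0, 0, 0, 1, 1]]),
    (4, ![![1, 0, 0, 0, 0, 0], ![0, 1, 0, 1, 1, 0], ![0, 0, 1, 1, 1, 0], ![0, 0, 0, -1, -1, 0], ![0, 0, 0, 1, 0, 0], ![0, 0, 0, 0, 1, 1]]),
    (3, ![![1, 0, 0, 0, 0, 0], ![0, 1, 0, 1, 0, 0], ![0, 0, 1, 1, 0, 0], ![0, 0, 0, -1, 0, 0], ![0, 0, 0, 1, 1, 0], ![0, 0, 0, 0, 0, 1]])]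

theorem chainOK4 : ChainOK Am chain4 := by decide +kernel

/-- a line -/
def C4a : Fin 6 → ℤ × ℤ := ![(1, -1), (0, 0), (0, 2), (-1, -1), (0, 0), (1, 0)]

/-- an auxiliary vector -/
def B4a : Fin 6 → ℤ × ℤ := ![(1, -1), (0, 2), (0, 2), (-2, -2), (2, 0), (0, 0)]

theorem line4a : LineOK chevE6 (hd chain4) (0) (-1) C4a B4a 9 := by decide +kernel

theorem small4a : Small chevE6 (0) (-1) C4a := by decide +kernel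

theorem psum4a_8 : ∑ r : Fin chevE6.nroots, qpow (0) (-1) (dotv chevE6 C4a r) 8 = (1440, 0) := by
  decide +kernel

theorem psum4a_12 : ∑ r : Fin chevE6.nroots, qpow (0) (-1) (dotv chevE6 C4a r) 12 = (14880, 0) := by
  decide +kernel

theorem zeros4a : (∑ r : Fin chevE6.nroots, if dotv chevE6 C4a r = (0, 0) then 1 else 0) = 12 := by
  decide +kernel

/-- the partial products, `d = 6` -/
def chain6 : List (Fin 6 × Mat 6) := [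
    (2, ![![0, 1, 0, 1, 1, 0], ![0, 1, 1, 1, 1, 1], ![1, 0, 1, 1, 1, 1], ![-1, -1, -2, -2, -2, -1], ![1, 1, 2, 2, 1, 0], ![-1, -1, -1, -1, 0, 0]]),
    (4, ![![0, 1, 1, 1, 1, 0], ![0, 1, 0, 1, 1, 1], ![1, 0, 1, 1, 1, 1], ![-1, -1, -1, -2, -2, -1], ![1, 1, 1, 2, 1, 0], ![-1, -1, -1, -1, 0, 0]]),
    (5, ![![0, 1, 1, 1, 0, 0], ![0, 1, 0, 1, 1, 1], ![1, 0, 1, 1, 1, 1], ![-1, -1, -1, -2, -1, -1], ![1, 1, 1, 2, 1, 0], ![-1, -1, -1, -1, -1, 0]]),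
    (1, ![![0, 1, 1, 1, 0, 0], ![0, 1, 0, 1, 1, 0], ![1, 0, 1, 1, 1, 0], ![-1, -1, -1, -2, -1, 0], ![1, 1, 1, 2, 1, 1], ![-1, -1, -1, -1, -1, -1]]),
    (0, ![![0, 0, 1, 1, 0, 0], ![0, 0, 0, 1, 1, 0], ![1, 1, 1, 1, 1, 0], ![-1, -1, -1, -2, -1, 0], ![1, 1, 1, 2, 1, 1], ![-1, 0, -1, -1, -1, -1]]),
    (2, ![![1, 0, 1, 1, 0, 0], ![0, 0, 0, 1, 1, 0], ![0, 1, 1, 1, 1, 0], ![0, -1, -1, -2, -1, 0], ![0, 1, 1, 2, 1, 1], ![0, 0, -1, -1, -1, -1]]),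
    (3, ![![1, 0, 1, 1, 0, 0], ![0, 0, 1, 1, 1, 0], ![0, 1, 0, 1, 1, 0], ![0, -1, -1, -2, -1, 0], ![0, 1, 1, 2, 1, 1], ![0, 0, 0, -1, -1, -1]]),
    (2, ![![1, 0, 1, 0, 0, 0], ![0, 0, 1, 1, 1, 0], ![0, 1, 0, 1, 1, 0], ![0, -1, -1, -1, -1, 0], ![0, 1, 1, 1, 1, 1], ![0, 0, 0, 0, -1, -1]]),
    (4, ![![1, 0, 0, 0, 0, 0], ![0, 0, 0, 1, 1, 0], ![0, 1, 1, 1, 1, 0], ![0, -1, 0, -1, -1, 0], ![0, 1, 0, 1, 1, 1], ![0, 0, 0, 0, -1, -1]]),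
    (1, ![![1, 0, 0, 0, 0, 0], ![0, 0, 0, 1, 0, 0], ![0, 1, 1, 1, 0, 0], ![0, -1, 0, -1, 0, 0], ![0, 1, 0, 1, 1, 1], ![0, 0, 0, 0, 0, -1]]),
    (3, ![![1, 0, 0, 0, 0, 0], ![0, 1, 0, 1, 0, 0], ![0, 0, 1, 1, 0, 0], ![0, 0, 0, -1, 0, 0], ![0, 0, 0, 1, 1, 1], ![0, 0, 0, 0, 0, -1]]),
    (5, ![![1, 0, 0, 0, 0, 0], ![0, 1, 0, 0, 0, 0], ![0, 0, 1, 0, 0, 0], ![0, 0, 0, 1, 0, 0], ![0, 0, 0, 0, 1, 1], ![0, 0, 0, 0, 0, -1]])]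

theorem chainOK6 : ChainOK Am chain6 := by decide +kernel

/-- a line -/
def C6a : Fin 6 → ℤ × ℤ := ![(-1, 0), (0, -1), (0, 0), (1, 0), (-1, 0), (1, 0)]

/-- an auxiliary vector -/
def B6a : Fin 6 → ℤ × ℤ := ![(0, 0), (1, -1), (1, 0), (-2, 1), (1, 0), (0, 0)]

theorem line6a : LineOK chevE6 (hd chain6) (1) (-1) C6a B6a 11 := by decide +kernel

theorem small6a : Small chevE6 (1) (-1) C6a := by decide +kernel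

theorem psum6a_6 : ∑ r : Fin chevE6.nroots, qpow (1) (-1) (dotv chevE6 C6a r) 6 = (-108, 0) := by
  decide +kernel

theorem zeros6a : (∑ r : Fin chevE6.nroots, if dotv chevE6 C6a r = (0, 0) then 1 else 0) = 12 := by
  decide +kernel

/-- a line -/
def C6b : Fin 6 → ℤ × ℤ := ![(-1, 0), (0, -2), (1, -1), (0, 2), (0, -1), (1, 0)]

/-- an auxiliary vector -/
def B6b : Fin 6 → ℤ × ℤ := ![(0, 0), (1, -1), (1, 0), (-2, 1), (1, 0), (0, 0)]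

theorem line6b : LineOK chevE6 (hd chain6) (1) (-1) C6b B6b 7 := by decide +kernel

theorem small6b : Small chevE6 (1) (-1) C6b := by decide +kernel

theorem psum6b_6 : ∑ r : Fin chevE6.nroots, qpow (1) (-1) (dotv chevE6 C6b r) 6 = (864, 0) := by
  decide +kernel

theorem zeros6b : (∑ r : Fin chevE6.nroots, if dotv chevE6 C6b r = (0, 0) then 1 else 0) = 6 := by
  decide +kernel

end E6

end Cfsg.Agent.H267.KE
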