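import Cfsg.Agent.H267.KE.DataE6
import Cfsg.Agent.H765.KE.Ord
import Cfsg.Agent.H349.KBE.RowG2
import Cfsg.Agent.H508.KB.Asm

/-!
# S4822, KE3: `k(B₀)` for `E₆(q)` (helper267)
-/

set_option autoImplicit false
set_option linter.unusedSectionVars false

namespace Cfsg.Agent.H267.KE

open CoxeterSystem Cfsg Cfsg.Lie Cfsg.Lie.ChevalleyDatum
open Cfsg.Agent.ChevalleyStructure Cfsg.Agent.ChevalleyStructure.Elts Cfsg.Agent.ChevalleyStructure.CoxeterGeom
  Cfsg.Agent.ChevalleyStructure.CoxeterGeomTypes Cfsg.Agent.ChevalleyStructure.NPerm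
  Cfsg.Agent.ChevalleyStructure.RootVec
open Cfsg.Agent.Tits.Roots Cfsg.Agent.Tits.Core Cfsg.Agent.Nodes Cfsg.Agent.Nodes.Reps Cfsg.Agent.Nodes.BNOf
  Cfsg.Agent.Nodes.RGDChev Cfsg.Agent.Nodes.Bruhat Cfsg.Agent.Nodes.SubComb Cfsg.Agent.Nodes.Coroot
open Cfsg.Agent.BpExc.TorChev Cfsg.Agent.BpExc.TowChev Cfsg.Agent.BpExc.Fr Cfsg.Agent.BpExc
open Cfsg.Agent.H129.WData Cfsg.Agent.H129.TorusUntw Cfsg.Agent.H129.TorusChar
open Cfsg.Agent.H210.EL Cfsg.Agent.H440.TD4 Cfsg.Agent.H765.KE Cfsg.Agent.H795 Cfsg.Agent.H795.Untw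
  Cfsg.Agent.H795.Core Cfsg.Agent.H795.RowsA Cfsg.Agent.BpExc.RowsUntw Cfsg.Agent.H795.Reduce

universe u v v'

section setup

variable {D : ChevalleyDatum} {l : ℕ} {M : CoxeterMatrix (Fin l)} {hp : IsType D l M} {k : Type u} [Field k] {r : ℕ}
  [Fact r.Prime] [CharP k r] {p e : ℕ} {G : Type v} [Group G] {S : Type v'} [Group S] {f : G →* ↥(D.group k)}
  {σ : MulAut ↥(D.group k)} {g : (Fin l → ℤ) ≃+ (Fin l → ℤ)}

/-- transport of a setup along an isomorphism -/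
theorem setup_equiv (h : Setup hp p r e f σ g) (φ : S ≃* G) : Setup hp p r e (f.comp φ.toMonoidHom) σ g where
  inj := h.inj.comp φ.injective
  e_pos := h.e_pos
  frob := h.frob
  fr := h.fr
  fix x := h.fix _
  norm y hy x := by
    obtain ⟨x', hx'⟩ := h.norm y hy (φ x)
    exact ⟨φ.symm x', by
      show f (φ (φ.symm x')) = y * f (φ x) * y⁻¹
      rw [φ.apply_symm_apply, hx']⟩
  p_mem y hy hj := by
    obtain ⟨x', hx'⟩ := h.p_mem y hy hj
    exact ⟨φ.symm x', by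
      show f (φ (φ.symm x')) = y
      rw [φ.apply_symm_apply, hx']⟩
  r_mem y hy hj := by
    obtain ⟨x', hx'⟩ := h.r_mem y hy hj
    exact ⟨φ.symm x', by
      show f (φ (φ.symm x')) = y
      rw [φ.apply_symm_apply, hx']⟩
  fin := h.fin

end setup

variable {r : ℕ} [hr : Fact r.Prime] {F : Type u} [Field F] [Fintype F] [CharP F r] {p : ℕ} [hpp : Fact p.Prime]
  {S : Type v} [Group S] [Finite S]

/-- the model for `E₆(q)` -/
theorem modelE6 (hrp : r ≠ p) (h11 : 11 ≤ p) (φ : S ≃* ↥(chevE6.group F)) (w : CoxeterMatrix.E₆.Group) :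
    ∃ X : (Fin 6 → ZMod p) → S, ModelS e6T p (Fintype.card F) (AddEquiv.refl (Fin 6 → ℤ)) w X := by
  have := finW e6T
  have hpF : (p : F) ≠ 0 := cast_ne_zero hrp
  obtain ⟨r', e', hr', hrF, hrk, he, hq, hk⟩ := exists_closure (F := F) rfl
  have hpr : p ≠ r' := by
    rintro rfl
    exact hpF (CharP.cast_eq_zero F p)
  have hW : ¬ p ∣ Nat.card CoxeterMatrix.E₆.Group := by
    rw [card_E6]
    intro h
    have := dvd_51840 hpp.out (by omega) h
    omega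
  have hset := setup_untw e6T hk (algebraMap F (AlgebraicClosure F)) he hq invC_E6 three_ne_zero
    (Or.inr Nat.prime_three) (p := p) (not_dvd_small (by omega) three_ne_zero (by norm_num))
  have h1 := exists_modelS e6T hk (by omega) hpr hW invC_E6 three_ne_zero (setup_equiv hset φ) w
  rwa [← hq] at h1

/-- the Weyl group element with matrix `hd L` -/
theorem hTh {L : List (Fin 6 × Mat 6)} (h : ChainOK E6.Am L) (j : Fin 6) :
    rep CoxeterMatrix.E₆.toCoxeterSystem e6T.isCartan (CoxeterMatrix.E₆.toCoxeterSystem.wordProd (L.map Prod.fst))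
      ((AddEquiv.refl (Fin 6 → ℤ)) (sr j)) = hd L j :=
  chain_rep e6T _ E6.hA h j

variable {M : Ideal AlgInt}

/-- two lines with fusion exponent 6 -/
structure TwoL (p : ℕ) (M : Ideal AlgInt) (S : Type v) [Group S] (e e' : ℕ) : Prop where
  top : 2 ≤ blockRank p (principalBlock M S)
  lines : ∃ x x' : S, orderOf x = p ^ 1 ∧ orderOf x' = p ^ 1 ∧
    (∀ (g : S) (i : ℕ), g * x * g⁻¹ = x ^ i → (i : ZMod p) ^ e = 1) ∧
    (∀ (g : S) (i : ℕ), g * x' * g⁻¹ = x' ^ i → (i : ZMod p) ^ e' = 1) ∧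
    (∀ (g : S) (i : ℕ), g * x * g⁻¹ ≠ x' ^ i) ∧
    2 ≤ blockRank p (principalBlock M ↥(Subgroup.centralizer ({x} : Set S))) ∧
    2 ≤ blockRank p (principalBlock M ↥(Subgroup.centralizer ({x'} : Set S)))

/-- one line -/
structure OneL (p : ℕ) (M : Ideal AlgInt) (S : Type v) [Group S] (e : ℕ) : Prop where
  top : 2 ≤ blockRank p (principalBlock M S)
  line : ∃ x : S, orderOf x = p ^ 1 ∧
    (∀ (g : S) (i : ℕ), g * x * g⁻¹ = x ^ i → (i : ZMod p) ^ e = 1) ∧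
    2 ≤ blockRank p (principalBlock M ↥(Subgroup.centralizer ({x} : Set S)))

theorem twoL_three (hM : IsPModular p M) (hrp : r ≠ p) (h11 : 11 ≤ p) (φ : S ≃* ↥(chevE6.group F))
    (hd : orderOf ((Fintype.card F : ℕ) : ZMod p) = 3) : TwoL p M S 6 6 := by
  obtain ⟨X, m⟩ := modelE6 hrp h11 φ (CoxeterMatrix.E₆.toCoxeterSystem.wordProd (E6.chain3.map Prod.fst))
  have hx := sq_of_three hd
  have hc1 := E6.line3a.mem (hp := e6T) (Q := Fintype.card F) (hTh E6.chainOK3) hx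
  have hc2 := E6.line3b.mem (hp := e6T) (Q := Fintype.card F) (hTh E6.chainOK3) hx
  have hp1 : psum chevE6 6 6 (cv ((Fintype.card F : ℕ) : ZMod p) E6.C3a) ≠ 0 := by
    rw [psum_cv hx, E6.psum3a_6, ev_int]
    exact smooth_ne_zero h11 4 (by norm_num)
  have hp2 : psum chevE6 6 6 (cv ((Fintype.card F : ℕ) : ZMod p) E6.C3b) ≠ 0 := by
    rw [psum_cv hx, E6.psum3b_6, ev_int]
    exact smooth_ne_zero h11 4 (by norm_num)
  refine ⟨E6.line3a.rank_top m hM h11 (hTh E6.chainOK3) hx, _, _, orderOf_X m hc1 (ne_zero_of_psum (by norm_num) hp1),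
    orderOf_X m hc2 (ne_zero_of_psum (by norm_num) hp2), pow_of_conj m hc1 hp1, pow_of_conj m hc2 hp2,
    ne_of_zeros m hc1 hc2 (ne_zero_of_psum (by norm_num) hp1) ?_, E6.line3a.rank m hM h11 (hTh E6.chainOK3) hx,
    E6.line3b.rank m hM h11 (hTh E6.chainOK3) hx⟩
  rw [zeros_cv h11 hx E6.small3a, zeros_cv h11 hx E6.small3b, E6.zeros3a, E6.zeros3b]
  norm_num

theorem twoL_six (hM : IsPModular p M) (hrp : r ≠ p) (h11 : 11 ≤ p) (φ : S ≃* ↥(chevE6.group F))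
    (hd : orderOf ((Fintype.card F : ℕ) : ZMod p) = 6) : TwoL p M S 6 6 := by
  obtain ⟨X, m⟩ := modelE6 hrp h11 φ (CoxeterMatrix.E₆.toCoxeterSystem.wordProd (E6.chain6.map Prod.fst))
  have hx := sq_of_six hd
  have hc1 := E6.line6a.mem (hp := e6T) (Q := Fintype.card F) (hTh E6.chainOK6) hx
  have hc2 := E6.line6b.mem (hp := e6T) (Q := Fintype.card F) (hTh E6.chainOK6) hx
  have hp1 : psum chevE6 6 6 (cv ((Fintype.card F : ℕ) : ZMod p) E6.C6a) ≠ 0 := by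
    rw [psum_cv hx, E6.psum6a_6, ev_int]
    exact smooth_ne_zero h11 5 (by norm_num)
  have hp2 : psum chevE6 6 6 (cv ((Fintype.card F : ℕ) : ZMod p) E6.C6b) ≠ 0 := by
    rw [psum_cv hx, E6.psum6b_6, ev_int]
    exact smooth_ne_zero h11 5 (by norm_num)
  refine ⟨E6.line6a.rank_top m hM h11 (hTh E6.chainOK6) hx, _, _, orderOf_X m hc1 (ne_zero_of_psum (by norm_num) hp1),
    orderOf_X m hc2 (ne_zero_of_psum (by norm_num) hp2), pow_of_conj m hc1 hp1, pow_of_conj m hc2 hp2,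
    ne_of_zeros m hc1 hc2 (ne_zero_of_psum (by norm_num) hp1) ?_, E6.line6a.rank m hM h11 (hTh E6.chainOK6) hx,
    E6.line6b.rank m hM h11 (hTh E6.chainOK6) hx⟩
  rw [zeros_cv h11 hx E6.small6a, zeros_cv h11 hx E6.small6b, E6.zeros6a, E6.zeros6b]
  norm_num

theorem oneL_four (hM : IsPModular p M) (hrp : r ≠ p) (h11 : 11 ≤ p) (φ : S ≃* ↥(chevE6.group F))
    (hd : orderOf ((Fintype.card F : ℕ) : ZMod p) = 4) : OneL p M S 4 := by
  obtain ⟨X, m⟩ := modelE6 hrp h11 φ (CoxeterMatrix.E₆.toCoxeterSystem.wordProd (E6.chain4.map Prod.fst))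
  have hx := sq_of_four hd
  have h4 : 4 ∣ p - 1 := dvd_sub_one (by norm_num) hd
  have hc1 := E6.line4a.mem (hp := e6T) (Q := Fintype.card F) (hTh E6.chainOK4) hx
  have hp1 : psum chevE6 6 8 (cv ((Fintype.card F : ℕ) : ZMod p) E6.C4a) ≠ 0 := by
    rw [psum_cv hx, E6.psum4a_8, ev_int]
    exact smooth_ne_zero h11 5 (by norm_num)
  have hp2 : psum chevE6 6 12 (cv ((Fintype.card F : ℕ) : ZMod p) E6.C4a) ≠ 0 := by
    rw [psum_cv hx, E6.psum4a_12, ev_int]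
    have h1 : ((480 : ℤ) : ZMod p) ≠ 0 := smooth_ne_zero h11 5 (by norm_num)
    have h2 : ((31 : ℤ) : ZMod p) ≠ 0 := by
      intro h3
      rw [ZMod.intCast_zmod_eq_zero_iff_dvd] at h3
      have h4' : p ∣ 31 := by exact_mod_cast h3
      have h5 := (Nat.prime_dvd_prime_iff_eq hpp.out (by norm_num)).1 h4'
      omega
    have h3 : ((14880 : ℤ) : ZMod p) = ((480 : ℤ) : ZMod p) * ((31 : ℤ) : ZMod p) := by
      rw [← Int.cast_mul]
      norm_num
    rw [h3]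
    exact mul_ne_zero h1 h2
  refine ⟨E6.line4a.rank_top m hM h11 (hTh E6.chainOK4) hx, _, orderOf_X m hc1 (ne_zero_of_psum (by norm_num) hp1),
    fun g i hg => ?_, E6.line4a.rank m hM h11 (hTh E6.chainOK4) hx⟩
  have h8 := pow_of_conj m hc1 hp1 g i hg
  have h12 := pow_of_conj m hc1 hp2 g i hg
  have h13 : (i : ZMod p) ^ 12 = (i : ZMod p) ^ 8 * (i : ZMod p) ^ 4 := by ring
  rw [h13, h8, one_mul] at h12
  exact h12

end Cfsg.Agent.H267.KE
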