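import Cfsg.Agent.H267.KE.Chk
import Cfsg.Agent.H765.KE.Model

/-!
# S4822, KE: lines in the torus model (helper267)

From `ModelS` (helper765): the hypotheses of `kB_of_one`, `kB_of_two` for `x = X c`.
-/

set_option autoImplicit false
set_option linter.unusedSectionVars false

namespace Cfsg.Agent.H267.KE

open CoxeterSystem Cfsg Cfsg.Lie Cfsg.Lie.ChevalleyDatum
open Cfsg.Agent.ChevalleyStructure Cfsg.Agent.ChevalleyStructure.Elts Cfsg.Agent.ChevalleyStructure.CoxeterGeom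
  Cfsg.Agent.ChevalleyStructure.CoxeterGeomTypes Cfsg.Agent.ChevalleyStructure.NPerm
  Cfsg.Agent.ChevalleyStructure.RootVec
open Cfsg.Agent.Tits.Roots Cfsg.Agent.Tits.Core Cfsg.Agent.Nodes Cfsg.Agent.Nodes.Reps Cfsg.Agent.Nodes.BNOf
  Cfsg.Agent.Nodes.RGDChev Cfsg.Agent.Nodes.Bruhat Cfsg.Agent.Nodes.SubComb Cfsg.Agent.Nodes.Coroot
open Cfsg.Agent.H129.WData Cfsg.Agent.H210.EL Cfsg.Agent.H440.TD4 Cfsg.Agent.H765.KE
open Cfsg.Agent.H795.Core

universe u v v'

section model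

variable {D : ChevalleyDatum} {l : ℕ} {M : CoxeterMatrix (Fin l)} {hp : IsType D l M} {p Q : ℕ} [hpp : Fact p.Prime]
  {g : (Fin l → ℤ) ≃+ (Fin l → ℤ)} {w : M.Group} {G : Type v} [Group G] {X : (Fin l → ZMod p) → G}

theorem lam_zero' (y : Fin l → ℤ) : lam (0 : Fin l → ZMod p) y = 0 := by
  unfold lam
  simp

theorem zero_mem_Lam : (0 : Fin l → ZMod p) ∈ Lam hp p Q g w := by
  intro x
  rw [lam_zero', lam_zero', mul_zero]

theorem X_zero (m : ModelS hp p Q g w X) : X 0 = 1 := by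
  have h1 := m.add 0 zero_mem_Lam 0 zero_mem_Lam
  rw [add_zero] at h1
  exact mul_eq_left.1 h1.symm

theorem X_smul (m : ModelS hp p Q g w X) {c : Fin l → ZMod p} (hc : c ∈ Lam hp p Q g w) (n : ℕ) :
    X ((n : ZMod p) • c) = X c ^ n := by
  induction n with
  | zero => rw [Nat.cast_zero, zero_smul, pow_zero, X_zero m]
  | succ n ih =>
    rw [Nat.cast_succ, add_smul, one_smul, m.add _ (Lam.smul hp _ hc) _ hc, ih, pow_succ]

theorem fus_of_conj (m : ModelS hp p Q g w X) {c c' : Fin l → ZMod p} (hc : c ∈ Lam hp p Q g w)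
    (hc' : c' ∈ Lam hp p Q g w) {h : G} {i : ℕ} (hh : h * X c * h⁻¹ = X c' ^ i) :
    Fus hp c ((i : ZMod p) • c') := by
  rw [← X_smul m hc'] at hh
  exact m.fus c hc _ (Lam.smul hp _ hc') h hh

/-- **the exponent of the fusion of a line** -/
theorem pow_of_conj (m : ModelS hp p Q g w X) {c : Fin l → ZMod p} (hc : c ∈ Lam hp p Q g w) {k : ℕ}
    (h0 : psum D l k c ≠ 0) (h : G) (i : ℕ) (hh : h * X c * h⁻¹ = X c ^ i) : (i : ZMod p) ^ k = 1 :=
  pow_eq_one_of_fus (fus_of_conj m hc hc hh) h0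

/-- **lines which are not fused** -/
theorem ne_of_zeros (m : ModelS hp p Q g w X) {c c' : Fin l → ZMod p} (hc : c ∈ Lam hp p Q g w)
    (hc' : c' ∈ Lam hp p Q g w) (h0 : c ≠ 0) (hz : zeros D l c ≠ zeros D l c') (h : G) (i : ℕ) :
    h * X c * h⁻¹ ≠ X c' ^ i := by
  intro hh
  by_cases hi : (i : ZMod p) = 0
  · apply h0
    apply m.inj c hc
    rw [← X_smul m hc', hi, zero_smul, X_zero m] at hh
    exact conj_eq_one_iff.1 hh
  · exact hz ((fus_of_conj m hc hc' hh).zeros_eq.trans (zeros_smul hi c'))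

theorem orderOf_X (m : ModelS hp p Q g w X) {c : Fin l → ZMod p} (hc : c ∈ Lam hp p Q g w) (h0 : c ≠ 0) :
    orderOf (X c) = p ^ 1 := by
  rw [pow_one]
  exact orderOf_eq_prime (m.pow c hc) (fun h => h0 (m.inj c hc h))

theorem rank_of_root [Finite G] {Mi : Ideal AlgInt} (m : ModelS hp p Q g w X) (hM : IsPModular p Mi)
    {c b : Fin l → ZMod p} (hc : c ∈ Lam hp p Q g w) (hb : b ∈ Lam hp p Q g w) {r : ℕ} (hr : r < D.nroots)
    (h0 : lam c (vec D l r) = 0) (h1 : lam b (vec D l r) ≠ 0) :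
    2 ≤ blockRank p (principalBlock Mi ↥(Subgroup.centralizer ({X c} : Set G))) :=
  m.two_le_rank hM hc hb (isRoot_vec hp M.toCoxeterSystem hr) h0 h1

end model

/-! ### `x = q mod p` of order 3, 4, 6 -/

section x

variable {p : ℕ} [hpp : Fact p.Prime] {x : ZMod p}

theorem sq_of_three (h : orderOf x = 3) : x * x = ((-1 : ℤ) : ZMod p) * x + ((-1 : ℤ) : ZMod p) := by
  have h1 : x ^ 3 = 1 := by rw [← h]; exact pow_orderOf_eq_one x
  have h2 : x ≠ 1 := by
    rintro rfl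
    rw [orderOf_one] at h
    omega
  have h3 : (x - 1) * (x * x + x + 1) = 0 := by linear_combination h1
  rcases mul_eq_zero.1 h3 with h4 | h4
  · exact absurd (sub_eq_zero.1 h4) h2
  · push_cast
    linear_combination h4

theorem sq_of_four (h : orderOf x = 4) : x * x = ((0 : ℤ) : ZMod p) * x + ((-1 : ℤ) : ZMod p) := by
  have h1 : x ^ 4 = 1 := by rw [← h]; exact pow_orderOf_eq_one x
  have h2 : x ^ 2 ≠ 1 := by
    intro h2
    have := orderOf_dvd_of_pow_eq_one h2
    rw [h] at this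
    omega
  have h3 : (x ^ 2 - 1) * (x * x + 1) = 0 := by linear_combination h1
  rcases mul_eq_zero.1 h3 with h4 | h4
  · exact absurd (sub_eq_zero.1 h4) h2
  · push_cast
    linear_combination h4

theorem sq_of_six (h : orderOf x = 6) : x * x = ((1 : ℤ) : ZMod p) * x + ((-1 : ℤ) : ZMod p) := by
  have h1 : x ^ 6 = 1 := by rw [← h]; exact pow_orderOf_eq_one x
  have h2 : x ^ 3 ≠ 1 := by
    intro h2
    have := orderOf_dvd_of_pow_eq_one h2
    rw [h] at this
    omega
  have h2' : x ^ 2 ≠ 1 := by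
    intro h2
    have := orderOf_dvd_of_pow_eq_one h2
    rw [h] at this
    omega
  have h3 : (x ^ 3 - 1) * ((x + 1) * (x * x - x + 1)) = 0 := by linear_combination h1
  rcases mul_eq_zero.1 h3 with h4 | h4
  · exact absurd (sub_eq_zero.1 h4) h2
  rcases mul_eq_zero.1 h4 with h5 | h5
  · exfalso
    apply h2'
    have h6 : x = -1 := by linear_combination h5
    rw [h6]
    ring
  · push_cast
    linear_combination h5

theorem dvd_sub_one {d : ℕ} (hd : d ≠ 0) (h : orderOf x = d) : d ∣ p - 1 := by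
  rw [← h]
  refine ZMod.orderOf_dvd_card_sub_one ?_
  rintro rfl
  apply hd
  rw [← h, orderOf_eq_zero_iff']
  intro n hn h1
  rw [zero_pow hn.ne'] at h1
  exact zero_ne_one h1

end x

end Cfsg.Agent.H267.KE
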