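import Cfsg.Agent.H267.KE.KBE6
import Cfsg.Agent.H832.KB.Family
import Cfsg.Agent.H191.KB.Final
import Cfsg.Agent.H804.KB.AbE6
import Cfsg.Agent.H112.EB.ESix
import Cfsg.Agent.H626.ExtB.OfPerm

/-!
# S4822, KE3: the row `E₆(q)` in cross characteristic (helper267)

* `kB_E6` : `p ≤ k(B₀)` if `p ∣ q² - 1`, `p + 3 ≤ 2 k(B₀)` otherwise;
* `row_E6` : the row.
-/

set_option autoImplicit false
set_option linter.unusedSectionVars false

namespace Cfsg.Agent.H267.KE

open Cfsg Cfsg.Lie Cfsg.Agent.H508.KB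

universe u v

theorem TwoL.le {p : ℕ} [hpp : Fact p.Prime] {M : Ideal AlgInt} (hM : IsPModular p M) {S : Type v} [Group S] [Finite S]
    (h : TwoL p M S 6 6) (h6 : 6 ∣ p - 1) : p + 3 ≤ 2 * kB M S := by
  obtain ⟨h1, x, x', hx, hx', hf, hf', hne, hb, hb'⟩ := h
  have h2 := H832.KB.kB_of_two hM x x' 1 1 hx hx' one_ne_zero one_ne_zero 6 6 2 2 hf hf' hne hb hb'
  obtain ⟨n, hn⟩ := h6
  have h3 : (p - 1) / 6 = n := by rw [hn]; exact Nat.mul_div_cancel_left n (by norm_num)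
  rw [h3] at h2
  have := hpp.out.two_le
  omega

theorem OneL.le {p : ℕ} [hpp : Fact p.Prime] {M : Ideal AlgInt} (hM : IsPModular p M) {S : Type v} [Group S] [Finite S]
    (h : OneL p M S 4) (h4 : 4 ∣ p - 1) : p + 3 ≤ 2 * kB M S := by
  obtain ⟨h1, x, hx, hf, hb⟩ := h
  have h2 := H832.KB.kB_of_one hM x 1 hx one_ne_zero 4 2 hf hb
  obtain ⟨n, hn⟩ := h4
  have h3 : (p - 1) / 4 = n := by rw [hn]; exact Nat.mul_div_cancel_left n (by norm_num)
  rw [h3] at h2
  have := hpp.out.two_le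
  omega

/-- six divides `p - 1` -/
theorem six_dvd {p : ℕ} [hpp : Fact p.Prime] (h11 : 11 ≤ p) (h3 : 3 ∣ p - 1) : 6 ∣ p - 1 := by
  have h2 : ¬ 2 ∣ p := by
    intro h
    have := (Nat.prime_dvd_prime_iff_eq Nat.prime_two hpp.out).1 h
    omega
  omega

theorem cls_equiv {p : ℕ} {S : Type v} [Group S] {G : Type u} [Group G] (φ : S ≃* G) (h : H349.KBE.Cls p G) :
    H349.KBE.Cls p S := by
  classical
  obtain ⟨X, hc, h1, h2⟩ := h
  refine ⟨X.map φ.symm.toEquiv.toEmbedding, by rw [Finset.card_map, hc], ?_, ?_⟩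
  · intro x hx
    obtain ⟨y, hy, rfl⟩ := Finset.mem_map.1 hx
    show (φ.symm y) ^ p = 1
    rw [← map_pow, h1 y hy, map_one]
  · intro x hx x' hx' hxx
    obtain ⟨y, hy, rfl⟩ := Finset.mem_map.1 hx
    obtain ⟨y', hy', rfl⟩ := Finset.mem_map.1 hx'
    have h3 : IsConj (φ.symm y) (φ.symm y') := hxx
    have h4 := φ.toMonoidHom.map_isConj h3
    have h5 : IsConj (φ (φ.symm y)) (φ (φ.symm y')) := h4
    rw [φ.apply_symm_apply, φ.apply_symm_apply] at h5
    exact congrArg φ.symm (h2 y hy y' hy' h5)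

section

variable {p : ℕ} [hpp : Fact p.Prime] {M : Ideal AlgInt} {r : ℕ} [hr : Fact r.Prime] {F : Type} [Field F] [Fintype F]
  [CharP F r]

/-- **`k(B₀(E₆(q)))`.** -/
theorem kB_E6 {S : Type v} [Group S] [Finite S] (hrp : r ≠ p) (h11 : 11 ≤ p) (hM : IsPModular p M)
    (e : Nonempty (S ≃* chevE6.group F)) (hP : NC p S) :
    p ≤ kB M S ∨ (¬ p ∣ Fintype.card F - 1 ∧ ¬ p ∣ Fintype.card F ^ 5 - 1 ∧ p + 3 ≤ 2 * kB M S) := by
  have hd := H765.KE.ord_E6 (F := F) hrp h11 e hP rfl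
  obtain ⟨φ⟩ := e
  set q := Fintype.card F with hq
  have hq2 : 2 ≤ q := by rw [hq]; exact Fintype.one_lt_card
  have hpow : ∀ n : ℕ, p ∣ q ^ n - 1 ↔ orderOf ((q : ℕ) : ZMod p) ∣ n := by
    intro n
    rw [orderOf_dvd_iff_pow_eq_one, ← Nat.cast_pow]
    have h1 : 1 ≤ q ^ n := Nat.one_le_pow _ _ (by omega)
    rw [← Nat.modEq_iff_dvd' h1, ← ZMod.natCast_eq_natCast_iff, Nat.cast_one]
    exact eq_comm
  have h12 : orderOf ((q : ℕ) : ZMod p) ∣ 2 → p ≤ kB M S := by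
    intro h
    refine H349.KBE.le_kB hM (cls_equiv φ (H349.KBE.cls_E6 (r := r) (by omega) (Ne.symm hrp) ?_))
    rw [← hq]
    exact (hpow 2).2 h
  have hgt : ∀ {d : ℕ}, orderOf ((q : ℕ) : ZMod p) = d → ¬ d ∣ 1 → ¬ d ∣ 5 → p + 3 ≤ 2 * kB M S →
      p ≤ kB M S ∨ (¬ p ∣ q - 1 ∧ ¬ p ∣ q ^ 5 - 1 ∧ p + 3 ≤ 2 * kB M S) := by
    intro d h h1 h5 hk
    refine Or.inr ⟨?_, ?_, hk⟩
    · have := (hpow 1).not
      rw [pow_one, h] at this
      exact this.2 h1
    · have := (hpow 5).not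
      rw [h] at this
      exact this.2 h5
  rcases hd with h | h | h | h | h
  · exact Or.inl (h12 (by rw [h]; norm_num))
  · exact Or.inl (h12 (by rw [h]))
  · exact hgt h (by norm_num) (by norm_num)
      ((twoL_three hM hrp h11 φ h).le hM (six_dvd h11 (dvd_sub_one (by norm_num) h)))
  · exact hgt h (by norm_num) (by norm_num) ((oneL_four hM hrp h11 φ h).le hM (dvd_sub_one (by norm_num) h))
  · exact hgt h (by norm_num) (by norm_num)
      ((twoL_six hM hrp h11 φ h).le hM (dvd_sub_one (by norm_num) h))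

variable (p) (S : Type v) [Group S] [Finite S] [IsSimpleGroup S]

/-- **KE3: the row `E₆(q)`.** -/
theorem row_E6 (hrp : r ≠ p) (h11 : 11 ≤ p) (hM : IsPModular p M)
    (e : Nonempty (S ≃* Lie.chevE6.group F)) (hP : NC p S) : Row p M S := by
  have hab : AbOut p S := H804.KB.ab_E6 hrp (by omega) e
  rcases kB_E6 hrp h11 hM e hP with h | ⟨h1, h5, h⟩
  · exact H191.KB.row_of_ab hM hab h
  · refine H191.KB.row_of_ext hM hab (H112.EB.extB_E6_of (H626.ExtB.OfPerm.extB_of_perm hM) hrp h1 h5 ?_ e) h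
    by_contra hp
    obtain ⟨P⟩ : Nonempty (Sylow p S) := inferInstance
    apply hP P
    have h2 : (P : Subgroup S) = ⊥ := by
      obtain ⟨j, hj⟩ := IsPGroup.iff_card.1 P.2
      rw [← Subgroup.card_eq_one, hj]
      rcases Nat.eq_zero_or_pos j with rfl | hj0
      · exact pow_zero p
      · exfalso
        apply hp
        refine (dvd_pow_self p hj0.ne').trans ?_
        rw [← hj]
        exact Subgroup.card_subgroup_dvd_card _
    rw [h2]
    infer_instance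

end

end Cfsg.Agent.H267.KE
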